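import Cfsg.Agent.Lib.TC.Enc

namespace Cfsg.Agent.Lib.CosetCert.D.HeN.Lv2.CT

open Cfsg.Agent.Lib.TC.Enc

set_option maxRecDepth 100000

/-- The chunks of the certificate. -/
noncomputable def tree : Tr Nat :=
  (Tr.leaf (nat_lit 0x9c060585ec7594a5c29dada0601ad267d4b6d188565a060d6cb39ccbb53774e98060dbddc645484828c6d40601942cacdb541abdb54060d53b38bcb9c3763ed206017b8c93db4b7aa4790060da49c435bbdfab571006094b2cb55b8b9a431cc06015ae0bd8b32daacf8a0600b50c2a90aca23aac606012260a44b1a5a93f860605322c19fb72f25208406009c0c11d093aa5a18206008b6c099b7b3221ac006013960834b01507b08c060f012c311b417a6ab0a060072c0390b5a3a28fc2060110c06a8b08b030e46060d187e008b627a49b040600624059e0206a10542060d083051cb28d018400060028a04980102a001000600414c209b3930080))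

end Cfsg.Agent.Lib.CosetCert.D.HeN.Lv2.CT
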